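import Mathlib
import Cfsg.Agent.S0699
import Cfsg.Agent.FastGrp
import Cfsg.Agent.Prune
set_option linter.all false
prune_inst 0x7f00000000000000000000000000000000000000000000000000000000000000000000000000000000000000000000000000000000000000000000000000000000000000000000000000000000000000003fffffffffffffffffffffffffffbeffbdffffffff
open scoped Cfsg.Agent.FastGrp

/-!
# Multiply transitive groups: elementary tools (helper354)

* `Tr3 G Ω`, `Tr4 G Ω` : 3- and 4-transitivity, elementwise;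
* `card_dvd` : a `k`-transitive group has order divisible by `n (n - 1) ... (n - k + 1)`;
* `Tr3.not_semiregular` (odd degree), `not_regular_of_tr4` : no regular normal subgroup;
* `range_of_card` : `n! ≤ 2 |G|` : the permutation group is alternating or symmetric.
-/

set_option autoImplicit false

namespace Cfsg.Agent.H354.Four

open MulAction

variable (G Ω : Type*) [Group G] [MulAction G Ω]

/-- 3-transitive -/
def Tr3 : Prop := ∀ a b c a' b' c' : Ω, a ≠ b → a ≠ c → b ≠ c → a' ≠ b' → a' ≠ c' → b' ≠ c' →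
  ∃ g : G, g • a = a' ∧ g • b = b' ∧ g • c = c'

/-- 4-transitive -/
def Tr4 : Prop := ∀ a b c d a' b' c' d' : Ω, a ≠ b → a ≠ c → a ≠ d → b ≠ c → b ≠ d → c ≠ d →
  a' ≠ b' → a' ≠ c' → a' ≠ d' → b' ≠ c' → b' ≠ d' → c' ≠ d' →
  ∃ g : G, g • a = a' ∧ g • b = b' ∧ g • c = c' ∧ g • d = d'

variable {G Ω}

theorem tr3_of (h : IsMultiplyPretransitive G Ω 3) : Tr3 G Ω := by
  intro a b c a' b' c' h1 h2 h3 h4 h5 h6
  obtain ⟨x, hx0, hx1, hx2⟩ := S0699.exists_embedding a b c h1 h2 h3
  obtain ⟨y, hy0, hy1, hy2⟩ := S0699.exists_embedding a' b' c' h4 h5 h6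
  obtain ⟨g, hg⟩ := (isMultiplyPretransitive_iff.mp h) x y
  have hg' : ∀ i, g • x i = y i := fun i => by rw [← hg]; rfl
  exact ⟨g, by rw [← hx0, ← hy0, hg'], by rw [← hx1, ← hy1, hg'], by rw [← hx2, ← hy2, hg']⟩

theorem Tr3.of (h : Tr3 G Ω) : IsMultiplyPretransitive G Ω 3 := by
  rw [isMultiplyPretransitive_iff]
  intro x y
  have hx : ∀ i j, i ≠ j → x i ≠ x j := fun i j hij h => hij (x.injective h)
  have hy : ∀ i j, i ≠ j → y i ≠ y j := fun i j hij h => hij (y.injective h)
  obtain ⟨g, hg0, hg1, hg2⟩ := h (x 0) (x 1) (x 2) (y 0) (y 1)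
    (y 2) (hx _ _ (by decide)) (hx _ _ (by decide)) (hx _ _ (by decide)) (hy _ _ (by decide))
    (hy _ _ (by decide)) (hy _ _ (by decide))
  refine ⟨g, ?_⟩
  ext i
  fin_cases i
  · exact hg0
  · exact hg1
  · exact hg2

theorem exists_embedding4 {α : Type*} (a b c d : α) (hab : a ≠ b) (hac : a ≠ c) (had : a ≠ d) (hbc : b ≠ c)
    (hbd : b ≠ d) (hcd : c ≠ d) : ∃ x : Fin 4 ↪ α, x 0 = a ∧ x 1 = b ∧ x 2 = c ∧ x 3 = d := by
  refine ⟨⟨![a, b, c, d], ?_⟩, rfl, rfl, rfl, rfl⟩
  intro i j h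
  fin_cases i <;> fin_cases j <;> simp_all

theorem tr4_of (h : IsMultiplyPretransitive G Ω 4) : Tr4 G Ω := by
  intro a b c d a' b' c' d' h1 h2 h3 h4 h5 h6 h7 h8 h9 h10 h11 h12
  obtain ⟨x, hx0, hx1, hx2, hx3⟩ := exists_embedding4 a b c d h1 h2 h3 h4 h5 h6
  obtain ⟨y, hy0, hy1, hy2, hy3⟩ := exists_embedding4 a' b' c' d' h7 h8 h9 h10 h11 h12
  obtain ⟨g, hg⟩ := (isMultiplyPretransitive_iff.mp h) x y
  have hg' : ∀ i, g • x i = y i := fun i => by rw [← hg]; rfl
  exact ⟨g, by rw [← hx0, ← hy0, hg'], by rw [← hx1, ← hy1, hg'], by rw [← hx2, ← hy2, hg'],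
    by rw [← hx3, ← hy3, hg']⟩

/-- a `k`-transitive group has order divisible by `n (n - 1) ... (n - k + 1)` -/
theorem card_dvd [Finite Ω] {k : ℕ} (h : IsMultiplyPretransitive G Ω k) (hk : k ≤ Nat.card Ω) :
    (Nat.card Ω).descFactorial k ∣ Nat.card G := by
  classical
  have := Fintype.ofFinite Ω
  have hne : Nonempty (Fin k ↪ Ω) := by
    rw [Function.Embedding.nonempty_iff_card_le, Fintype.card_fin, ← Nat.card_eq_fintype_card]
    exact hk
  obtain ⟨x⟩ := hne
  have h1 := MulAction.index_stabilizer_of_transitive G x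
  rw [Nat.card_eq_fintype_card (α := Fin k ↪ Ω), Fintype.card_embedding_eq, Fintype.card_fin] at h1
  rw [Nat.card_eq_fintype_card (α := Ω), ← h1]
  exact Subgroup.index_dvd_card _

theorem Tr3.card_dvd [Finite Ω] (h : Tr3 G Ω) (hn : 3 ≤ Nat.card Ω) :
    Nat.card Ω * (Nat.card Ω - 1) * (Nat.card Ω - 2) ∣ Nat.card G := by
  have h1 := Four.card_dvd h.of hn
  have h2 : (Nat.card Ω).descFactorial 3 = Nat.card Ω * (Nat.card Ω - 1) * (Nat.card Ω - 2) := by
    rw [Nat.descFactorial_succ, Nat.descFactorial_succ, Nat.descFactorial_one]; ring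
  rwa [h2] at h1

theorem card_dvd_four [Finite Ω] (h : IsMultiplyPretransitive G Ω 4) (hn : 4 ≤ Nat.card Ω) :
    Nat.card Ω * (Nat.card Ω - 1) * (Nat.card Ω - 2) * (Nat.card Ω - 3) ∣ Nat.card G := by
  have h1 := Four.card_dvd h hn
  have h2 : (Nat.card Ω).descFactorial 4 =
      Nat.card Ω * (Nat.card Ω - 1) * (Nat.card Ω - 2) * (Nat.card Ω - 3) := by
    rw [Nat.descFactorial_succ, Nat.descFactorial_succ, Nat.descFactorial_succ, Nat.descFactorial_one]; ring
  rwa [h2] at h1

/-- **Wagner.** -/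
theorem wagner [Finite G] [FaithfulSMul G Ω] [Finite Ω] (hodd : Odd (Nat.card Ω)) (h5 : 5 ≤ Nat.card Ω) (h3 : Tr3 G Ω)
    (N : Subgroup G) [N.Normal] (hN : N ≠ ⊥) : Tr3 ↥N Ω := by
  classical
  have := Fintype.ofFinite Ω
  rw [Nat.card_eq_fintype_card] at hodd h5
  intro a b c a' b' c' h1 h2 h3' h4 h5' h6
  obtain ⟨g, hg, h7, h8, h9⟩ := S0699.three_trans hodd h5 h3 N hN a b c a' b' c' h1 h2 h3' h4 h5' h6
  exact ⟨⟨g, hg⟩, h7, h8, h9⟩

/-- odd degree, 3-transitive: normal subgroups are not semiregular -/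
theorem Tr3.not_semiregular [Finite G] [FaithfulSMul G Ω] [Finite Ω] (hodd : Odd (Nat.card Ω)) (h5 : 5 ≤ Nat.card Ω)
    (h3 : Tr3 G Ω) (N : Subgroup G) [N.Normal] (hN : N ≠ ⊥) (hfree : ∀ x : Ω, ∀ n ∈ N, n • x = x → n = 1) : False := by
  classical
  have := Fintype.ofFinite Ω
  rw [Nat.card_eq_fintype_card] at hodd h5
  obtain ⟨a, b, c, hab, hac, hbc⟩ := Fintype.two_lt_card_iff.1 (show 2 < Fintype.card Ω by omega)
  obtain ⟨y, hy, h1, h2⟩ := S0699.exists_fix_map hodd h5 h3 N hN a b c hab hac hbc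
  rw [hfree a y hy h1, one_smul] at h2
  exact hbc h2

/-- a 4-transitive group of degree at least 5 has no regular normal subgroup -/
theorem not_regular_of_tr4 [Finite Ω] (h5 : 5 ≤ Nat.card Ω) (h4 : Tr4 G Ω) (N : Subgroup G) [hNn : N.Normal]
    (htr : ∀ x y : Ω, ∃ n ∈ N, n • x = y) (hfree : ∀ x : Ω, ∀ n ∈ N, n • x = x → n = 1) : False := by
  classical
  have := Fintype.ofFinite Ω
  rw [Nat.card_eq_fintype_card] at h5
  have hex : ∀ s : Finset Ω, s.card ≤ 4 → ∃ y, y ∉ s := by
    intro s hs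
    by_contra hcon
    push Not at hcon
    have h1 : s = Finset.univ := Finset.eq_univ_iff_forall.2 hcon
    rw [h1, Finset.card_univ] at hs
    omega
  obtain ⟨x, -⟩ := hex ∅ (by simp)
  obtain ⟨a, ha⟩ := hex {x} (by simp)
  obtain ⟨m, hm, hma⟩ := htr x a
  obtain ⟨b, hb⟩ := hex {x, a, m⁻¹ • x} (le_trans Finset.card_le_three (by norm_num))
  obtain ⟨k, hk, hkb⟩ := htr x b
  simp only [Finset.mem_singleton, Finset.mem_insert, not_or] at ha hb
  have hc1 : (m * k) • x ≠ x := by
    intro h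
    apply hb.2.2
    rw [mul_smul, hkb] at h
    rw [← h, inv_smul_smul]
  have hc2 : (m * k) • x ≠ a := by
    intro h
    rw [mul_smul, hkb, ← hma] at h
    exact hb.1 (smul_left_cancel m h)
  have hc3 : (m * k) • x ≠ b := by
    intro h
    rw [mul_smul, hkb] at h
    have h1 := hfree b m hm h
    rw [h1, one_smul] at hma
    exact ha hma.symm
  obtain ⟨d, hd⟩ := hex {x, a, b, (m * k) • x} Finset.card_le_four
  simp only [Finset.mem_singleton, Finset.mem_insert, not_or] at hd
  obtain ⟨g, hg1, hg2, hg3, hg4⟩ := h4 x a b ((m * k) • x) x a b d (Ne.symm ha) (Ne.symm hb.1) (Ne.symm hc1)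
    (Ne.symm hb.2.1) (Ne.symm hc2) (Ne.symm hc3) (Ne.symm ha) (Ne.symm hb.1) (Ne.symm hd.1) (Ne.symm hb.2.1)
    (Ne.symm hd.2.1) (Ne.symm hd.2.2.1)
  have hcomm : ∀ n ∈ N, ∀ y : Ω, n • x = y → g • y = y → g * n * g⁻¹ = n := by
    intro n hn y h1 h2
    have h3 : (n⁻¹ * (g * n * g⁻¹)) • x = x := by
      rw [mul_smul, mul_smul, mul_smul, inv_smul_eq_iff.2 hg1.symm, h1, h2, ← h1, inv_smul_smul]
    have h4 := hfree x _ (mul_mem (inv_mem hn) (hNn.conj_mem n hn g)) h3
    exact (inv_mul_eq_one.1 h4).symm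
  have e1 := hcomm m hm a hma hg2
  have e2 := hcomm k hk b hkb hg3
  have h6 : g • ((m * k) • x) = (m * k) • x := by
    have h7 : g * (m * k) = (m * k) * g := by
      have h8 : g * m = m * g := by
        calc g * m = (g * m * g⁻¹) * g := by group
          _ = m * g := by rw [e1]
      have h9 : g * k = k * g := by
        calc g * k = (g * k * g⁻¹) * g := by group
          _ = k * g := by rw [e2]
      rw [← mul_assoc, h8, mul_assoc, h9, ← mul_assoc]
    rw [← mul_smul, h7, mul_smul, hg1]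
  rw [h6] at hg4
  exact hd.2.2.2 hg4.symm

/-- 4-transitive: the stabilizer of a point is 3-transitive on the other points -/
theorem stab_mpt (h1 : IsPretransitive G Ω) (h : IsMultiplyPretransitive G Ω 4) (a : Ω) :
    IsMultiplyPretransitive (stabilizer G a) (SubMulAction.ofStabilizer G a) 3 :=
  SubMulAction.ofStabilizer.isMultiplyPretransitive.1 h

theorem card_ofStabilizer [Finite Ω] (a : Ω) : Nat.card (SubMulAction.ofStabilizer G a) = Nat.card Ω - 1 := by
  have h := SubMulAction.nat_card_ofStabilizer_eq G a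
  exact h

theorem range_of_card [Fintype Ω] [DecidableEq Ω] [FaithfulSMul G Ω]
    (h : (Fintype.card Ω).factorial ≤ 2 * Nat.card G) :
    (MulAction.toPermHom G Ω).range = ⊤ ∨ (MulAction.toPermHom G Ω).range = alternatingGroup Ω := by
  have hc : Nat.card (MulAction.toPermHom G Ω).range = Nat.card G :=
    (Nat.card_congr (MonoidHom.ofInjective (f := MulAction.toPermHom G Ω) MulAction.toPerm_injective).toEquiv).symm
  have hidx : (MulAction.toPermHom G Ω).range.index ≤ 2 := by
    by_contra hcon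
    have h1 := (MulAction.toPermHom G Ω).range.card_mul_index
    rw [hc, Nat.card_perm, Nat.card_eq_fintype_card (α := Ω)] at h1
    have h2 : 0 < Nat.card G := by
      rcases Nat.eq_zero_or_pos (Nat.card G) with h0 | h0
      · rw [h0] at h
        have := Nat.factorial_pos (Fintype.card Ω)
        omega
      · exact h0
    have h3 : 3 ≤ (MulAction.toPermHom G Ω).range.index := by omega
    nlinarith
  have hle : alternatingGroup Ω ≤ (MulAction.toPermHom G Ω).range :=
    Equiv.Perm.alternatingGroup_le_of_index_le_two hidx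
  rcases Nat.lt_or_ge (Fintype.card Ω) 2 with h2 | h2
  · have : Subsingleton Ω := Fintype.card_le_one_iff_subsingleton.1 (by omega)
    left
    exact Subsingleton.elim _ _
  have : Nontrivial Ω := Fintype.one_lt_card_iff_nontrivial.1 (by omega)
  have h0 : (MulAction.toPermHom G Ω).range.index ≠ 0 := Subgroup.index_ne_zero_of_finite
  have halt : (alternatingGroup Ω).index = 2 := alternatingGroup.index_eq_two
  rcases (show (MulAction.toPermHom G Ω).range.index = 1 ∨ (MulAction.toPermHom G Ω).range.index = 2 by omega)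
    with h3 | h3
  · left
    exact Subgroup.index_eq_one.1 h3
  · right
    symm
    refine Subgroup.eq_of_le_of_card_ge hle ?_
    have h4 := (MulAction.toPermHom G Ω).range.card_mul_index
    have h5 := (alternatingGroup Ω).card_mul_index
    rw [h3] at h4
    rw [halt] at h5
    omega

end Cfsg.Agent.H354.Four
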